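import Mathlib
import Groth.Agent.Lib.Helper3.FpqcLocal3

/-!
# Single fpqc coverings and morphisms dominated by an fpqc covering

`Cov f` : the singleton family `{f}` is a covering for the fpqc precoverage.
`HCF p` : some morphism `r` makes `r ≫ p` an fpqc covering (so `p` is an epimorphism of
fpqc sheaves).  Both are stable under base change and composition; properties which are
fpqc local on the target descend along them, and morphisms descend along them.
-/

set_option autoImplicit false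

open CategoryTheory Limits MorphismProperty AlgebraicGeometry

universe u

namespace Groth.Agent.H3.FpqcCov

/-- `f` alone is a covering family of its target for the fpqc precoverage. -/
def Cov : MorphismProperty Scheme.{u} :=
  fun _ Y f => Presieve.singleton f ∈ Scheme.fpqcPrecoverage Y

lemma ofArrows_const {C : Type*} [Category C] {ι : Type*} [Nonempty ι] {X Y : C} (f : X ⟶ Y) :
    Presieve.ofArrows (fun _ : ι => X) (fun _ => f) = Presieve.singleton f := by
  refine le_antisymm ?_ ?_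
  · rintro Z g ⟨i⟩
    exact Presieve.singleton.mk
  · rintro Z g ⟨⟩
    exact Presieve.ofArrows.mk (Classical.arbitrary ι)

instance cov_baseChange : Cov.{u}.IsStableUnderBaseChange where
  of_isPullback {X Y Y' S f g f' g'} sq hg := by
    have := Precoverage.mem_coverings_of_isPullback (J := Scheme.fpqcPrecoverage)
      (fun _ : PUnit.{1} => g) (by rw [Presieve.ofArrows_pUnit]; exact hg) f
      (fun _ => g') (fun _ => f') (fun _ => sq.flip)
    rwa [Presieve.ofArrows_pUnit] at this

instance cov_comp : Cov.{u}.IsStableUnderComposition where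
  comp_mem {X Y Z} f g hf hg := by
    have := Precoverage.comp_mem_coverings (J := Scheme.fpqcPrecoverage)
      (fun _ : PUnit.{1} => g) (by rw [Presieve.ofArrows_pUnit]; exact hg)
      (σ := fun _ => PUnit.{1}) (Y := fun _ _ => X) (fun _ _ => f)
      (fun _ => by rw [Presieve.ofArrows_pUnit]; exact hf)
    have e := ofArrows_const (ι := Σ _ : PUnit.{1}, PUnit.{1}) (f ≫ g)
    change Presieve.singleton (f ≫ g) ∈ _
    rw [← e]
    exact this

lemma cov_of_isIso {X Y : Scheme.{u}} (f : X ⟶ Y) [IsIso f] : Cov f :=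
  Precoverage.mem_coverings_of_isIso f

lemma Cov.surjective {X Y : Scheme.{u}} {f : X ⟶ Y} (hf : Cov f) : Surjective f :=
  ⟨((Scheme.singleton_mem_precoverage_iff (P := @Flat) f).1 hf.2).1⟩

lemma Cov.flat {X Y : Scheme.{u}} {f : X ⟶ Y} (hf : Cov f) : Flat f :=
  ((Scheme.singleton_mem_precoverage_iff (P := @Flat) f).1 hf.2).2

lemma Cov.epi {X Y : Scheme.{u}} {f : X ⟶ Y} (hf : Cov f) : Epi f :=
  have := hf.surjective
  have := hf.flat
  Flat.epi_of_flat_of_surjective f

/-- The covering condition used in the statements. -/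
lemma cov_of_cond {Z Y : Scheme.{u}} (q : Z ⟶ Y) (hs : Surjective q) (hf : Flat q)
    (h : ∀ V : Y.Opens, IsAffineOpen V →
      ∃ W : Z.Opens, IsCompact (W : Set Z) ∧ q.base '' (W : Set Z) = (V : Set Y)) : Cov q := by
  refine ⟨?_, ?_⟩
  · rw [← PreZeroHypercover.presieve₀_singleton.{_, _, 0} q, Scheme.presieve₀_mem_qcPrecoverage_iff]
    constructor
    intro U hU
    obtain ⟨W, hWc, hWU⟩ := h U hU
    rw [IsCompactOpenCovered.iff_of_unique]
    exact ⟨W, hWc, hWU⟩
  · rw [Scheme.singleton_mem_precoverage_iff]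
    exact ⟨hs.surj, hf⟩

/-- A property which is fpqc local on the target descends along a single fpqc covering. -/
lemma of_isPullback {P : MorphismProperty Scheme.{u}} [P.IsLocalAtTarget Scheme.fpqcPrecoverage]
    {A X Y Z : Scheme.{u}} {fst : A ⟶ X} {snd : A ⟶ Y} {f : X ⟶ Z} {g : Y ⟶ Z}
    (h : IsPullback fst snd f g) (hf : Cov f) (hfst : P fst) : P g := by
  apply MorphismProperty.IsLocalAtTarget.of_forall_pullbackSnd (P := P)
    (K := Scheme.fpqcPrecoverage) hf
  intro U g' _ hg'
  cases hg'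
  have e : pullback.snd g f = h.flip.isoPullback.inv ≫ fst := by
    rw [IsPullback.isoPullback_inv_snd]
  rw [e]
  exact (P.cancel_left_of_respectsIso _ _).2 hfst

/-- `p` is dominated by an fpqc covering of its target. -/
def HCF : MorphismProperty Scheme.{u} :=
  fun X _ p => ∃ (Z : Scheme.{u}) (r : Z ⟶ X), Cov (r ≫ p)

lemma hcf_of_cond {X Y : Scheme.{u}} (p : X ⟶ Y)
    (hcov : ∃ (Z : Scheme.{u}) (q : Z ⟶ Y) (r : Z ⟶ X), r ≫ p = q ∧ Surjective q ∧ Flat q ∧
      ∀ V : Y.Opens, IsAffineOpen V →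
        ∃ W : Z.Opens, IsCompact (W : Set Z) ∧ q.base '' (W : Set Z) = (V : Set Y)) : HCF p := by
  obtain ⟨Z, q, r, rfl, hs, hf, h⟩ := hcov
  exact ⟨Z, r, cov_of_cond _ hs hf h⟩

lemma Cov.hcf {X Y : Scheme.{u}} {f : X ⟶ Y} (hf : Cov f) : HCF f :=
  ⟨X, 𝟙 X, by rwa [Category.id_comp]⟩

instance hcf_baseChange : HCF.{u}.IsStableUnderBaseChange where
  of_isPullback {X Y Y' S f g f' g'} sq hg := by
    obtain ⟨Z, r, hr⟩ := hg
    refine ⟨pullback f' r, pullback.fst f' r, ?_⟩
    have h1 : IsPullback (pullback.snd f' r) (pullback.fst f' r) r f' :=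
      (IsPullback.of_hasPullback f' r).flip
    exact Cov.of_isPullback (h1.paste_vert sq) hr

instance hcf_comp : HCF.{u}.IsStableUnderComposition where
  comp_mem {X Y W} p₁ p₂ h₁ h₂ := by
    obtain ⟨Z₁, r₁, hr₁⟩ := h₁
    obtain ⟨Z₂, r₂, hr₂⟩ := h₂
    refine ⟨pullback (r₁ ≫ p₁) r₂, pullback.fst _ _ ≫ r₁, ?_⟩
    have e : (pullback.fst (r₁ ≫ p₁) r₂ ≫ r₁) ≫ p₁ ≫ p₂ =
        pullback.snd (r₁ ≫ p₁) r₂ ≫ r₂ ≫ p₂ := by
      rw [Category.assoc, ← Category.assoc r₁, pullback.condition_assoc]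
    rw [e]
    exact Cov.comp_mem _ _ (Cov.pullback_snd _ _ hr₁) hr₂

lemma HCF.epi {X Y : Scheme.{u}} {p : X ⟶ Y} (hp : HCF p) : Epi p := by
  obtain ⟨Z, r, hr⟩ := hp
  have := hr.epi
  exact epi_of_epi r p

lemma HCF.surjective {X Y : Scheme.{u}} {p : X ⟶ Y} (hp : HCF p) : Surjective p := by
  obtain ⟨Z, r, hr⟩ := hp
  have := hr.surjective
  exact Surjective.of_comp r p

/-- Descent of a property which is fpqc local on the target and stable under base change along a
morphism dominated by an fpqc covering. -/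
lemma HCF.of_isPullback {P : MorphismProperty Scheme.{u}}
    [P.IsLocalAtTarget Scheme.fpqcPrecoverage] [P.IsStableUnderBaseChange]
    {A X Y Z : Scheme.{u}} {fst : A ⟶ X} {snd : A ⟶ Y} {f : X ⟶ Z} {g : Y ⟶ Z}
    (h : IsPullback fst snd f g) (hf : HCF f) (hfst : P fst) : P g := by
  obtain ⟨W, r, hr⟩ := hf
  have h1 : IsPullback (pullback.snd r fst) (pullback.fst r fst) fst r :=
    (IsPullback.of_hasPullback r fst).flip
  have h2 := (h1.paste_horiz h.flip).flip
  exact FpqcCov.of_isPullback h2 hr (P.pullback_fst _ _ hfst)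

lemma Cov.effectiveEpi {X Y : Scheme.{u}} {q : X ⟶ Y} (hq : Cov q) : EffectiveEpi q := by
  rw [← Sieve.effectiveEpimorphic_singleton,
    Presieve.EffectiveEpimorphic.iff_forall_isSheafFor_yoneda]
  intro Z
  exact (GrothendieckTopology.Subcanonical.isSheaf_of_isRepresentable
    (J := Scheme.fpqcTopology) _).isSheafFor _ (Precoverage.generate_mem_toGrothendieck hq)

/-- Morphisms descend along a morphism dominated by an fpqc covering: `p` is a universal
effective epimorphism for the (representable) fpqc sheaves. -/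
lemma HCF.exists_desc {X Y : Scheme.{u}} {p : X ⟶ Y} (hp : HCF p) {W : Scheme.{u}} (f : X ⟶ W)
    (hf : ∀ {T : Scheme.{u}} (a b : T ⟶ X), a ≫ p = b ≫ p → a ≫ f = b ≫ f) :
    ∃ g : Y ⟶ W, p ≫ g = f := by
  obtain ⟨Z, r, hr⟩ := hp
  have := hr.effectiveEpi
  have hcomp : ∀ {T : Scheme.{u}} (a b : T ⟶ Z), a ≫ r ≫ p = b ≫ r ≫ p →
      a ≫ r ≫ f = b ≫ r ≫ f := by
    intro T a b hab
    rw [← Category.assoc, ← Category.assoc]
    apply hf
    simpa only [Category.assoc] using hab
  refine ⟨EffectiveEpi.desc (r ≫ p) (r ≫ f) hcomp, ?_⟩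
  have hfac : (r ≫ p) ≫ EffectiveEpi.desc (r ≫ p) (r ≫ f) hcomp = r ≫ f :=
    EffectiveEpi.fac _ _ _
  -- compare after the covering `pullback.fst p (r ≫ p)` of `X`
  have hc : Cov (pullback.fst p (r ≫ p)) := Cov.pullback_fst _ _ hr
  have := hc.epi
  rw [← cancel_epi (pullback.fst p (r ≫ p))]
  have h1 : pullback.fst p (r ≫ p) ≫ p ≫ EffectiveEpi.desc (r ≫ p) (r ≫ f) hcomp =
      (pullback.snd p (r ≫ p) ≫ r) ≫ f := by
    rw [← Category.assoc, pullback.condition, Category.assoc, hfac, Category.assoc]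
  rw [h1]
  symm
  apply hf
  rw [Category.assoc, pullback.condition]

end Groth.Agent.H3.FpqcCov
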