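import Mathlib

/-!
# Group structure on a quotient of a group object

In a cartesian monoidal category, let `G` be a group object and `p : G ⟶ Q` a morphism such that
`p`, `p ⊗ₘ p` and `(p ⊗ₘ p) ⊗ₘ p` are epimorphisms.  If the multiplication and the inverse of `G`
descend to `m : Q ⊗ Q ⟶ Q` and `i : Q ⟶ Q`, then `Q` is a group object and `p` is a homomorphism.
-/

set_option autoImplicit false

open CategoryTheory MonoidalCategory CartesianMonoidalCategory MonObj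

namespace Groth.Agent.H3.QGrp

universe v w

variable {C : Type w} [Category.{v} C] [CartesianMonoidalCategory C] {G Q : C} [GrpObj G]

/-- product of two `T`-points of `Q` -/
def sm (m : Q ⊗ Q ⟶ Q) {T : C} (a b : T ⟶ Q) : T ⟶ Q := lift a b ≫ m

lemma comp_sm (m : Q ⊗ Q ⟶ Q) {T T' : C} (k : T' ⟶ T) (a b : T ⟶ Q) :
    k ≫ sm m a b = sm m (k ≫ a) (k ≫ b) := by
  simp only [sm, comp_lift_assoc]

variable {p : G ⟶ Q} {m : Q ⊗ Q ⟶ Q} {i : Q ⟶ Q}

lemma sm_p (hm : (p ⊗ₘ p) ≫ m = μ[G] ≫ p) {T : C} (x y : T ⟶ G) :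
    sm m (x ≫ p) (y ≫ p) = (x * y) ≫ p := by
  rw [sm, ← lift_map_assoc, hm, ← Category.assoc, Hom.mul_def]

section axioms

variable (hm : (p ⊗ₘ p) ≫ m = μ[G] ≫ p) (hi : p ≫ i = ι[G] ≫ p)

include hm in
lemma one_sm [Epi p] : sm m (toUnit Q ≫ η[G] ≫ p) (𝟙 Q) = 𝟙 Q := by
  rw [← cancel_epi p, comp_sm, Category.comp_id, comp_toUnit_assoc]
  have e : sm m (toUnit G ≫ η[G] ≫ p) p = sm m ((toUnit G ≫ η[G]) ≫ p) (𝟙 G ≫ p) := by
    rw [Category.id_comp, Category.assoc]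
  rw [e, sm_p hm, ← Hom.one_def, _root_.one_mul, Category.id_comp]

include hm in
lemma sm_one [Epi p] : sm m (𝟙 Q) (toUnit Q ≫ η[G] ≫ p) = 𝟙 Q := by
  rw [← cancel_epi p, comp_sm, Category.comp_id, comp_toUnit_assoc]
  have e : sm m p (toUnit G ≫ η[G] ≫ p) = sm m (𝟙 G ≫ p) ((toUnit G ≫ η[G]) ≫ p) := by
    rw [Category.id_comp, Category.assoc]
  rw [e, sm_p hm, ← Hom.one_def, _root_.mul_one, Category.id_comp]

include hm hi in
lemma inv_sm [Epi p] : sm m i (𝟙 Q) = toUnit Q ≫ η[G] ≫ p := by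
  rw [← cancel_epi p, comp_sm, Category.comp_id, comp_toUnit_assoc, hi]
  have e : sm m (ι[G] ≫ p) p = sm m (ι[G] ≫ p) (𝟙 G ≫ p) := by rw [Category.id_comp]
  rw [e, sm_p hm, GrpObj.inv_eq_inv, inv_mul_cancel, Hom.one_def, Category.assoc]

include hm hi in
lemma sm_inv [Epi p] : sm m (𝟙 Q) i = toUnit Q ≫ η[G] ≫ p := by
  rw [← cancel_epi p, comp_sm, Category.comp_id, comp_toUnit_assoc, hi]
  have e : sm m p (ι[G] ≫ p) = sm m (𝟙 G ≫ p) (ι[G] ≫ p) := by rw [Category.id_comp]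
  rw [e, sm_p hm, GrpObj.inv_eq_inv, mul_inv_cancel, Hom.one_def, Category.assoc]

include hm in
lemma sm_assoc [Epi ((p ⊗ₘ p) ⊗ₘ p)] :
    sm m (sm m (fst (Q ⊗ Q) Q ≫ fst Q Q) (fst (Q ⊗ Q) Q ≫ snd Q Q)) (snd (Q ⊗ Q) Q) =
      sm m (fst (Q ⊗ Q) Q ≫ fst Q Q) (sm m (fst (Q ⊗ Q) Q ≫ snd Q Q) (snd (Q ⊗ Q) Q)) := by
  rw [← cancel_epi ((p ⊗ₘ p) ⊗ₘ p)]
  simp only [comp_sm, tensorHom_fst_assoc, tensorHom_fst, tensorHom_snd]
  have e1 : fst (G ⊗ G) G ≫ fst G G ≫ p = (fst (G ⊗ G) G ≫ fst G G) ≫ p :=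
    (Category.assoc _ _ _).symm
  have e2 : fst (G ⊗ G) G ≫ snd G G ≫ p = (fst (G ⊗ G) G ≫ snd G G) ≫ p :=
    (Category.assoc _ _ _).symm
  rw [e1, e2, sm_p hm, sm_p hm, sm_p hm, sm_p hm, _root_.mul_assoc]

end axioms

/-- The group structure on the quotient. -/
@[reducible] def grpObj (hm : (p ⊗ₘ p) ≫ m = μ[G] ≫ p) (hi : p ≫ i = ι[G] ≫ p)
    [Epi p] [Epi ((p ⊗ₘ p) ⊗ₘ p)] : GrpObj Q where
  one := η[G] ≫ p
  mul := m
  one_mul := by
    have h := one_sm hm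
    have e : (η[G] ≫ p) ▷ Q = lift (toUnit (𝟙_ C ⊗ Q) ≫ η[G] ≫ p) (snd (𝟙_ C) Q) := by
      ext
      · simp only [whiskerRight_fst, lift_fst]
        congr 1
        exact toUnit_unique _ _
      · simp
    rw [e, leftUnitor_hom]
    have h' := congrArg (snd (𝟙_ C) Q ≫ ·) h
    simp only [comp_sm, Category.comp_id, comp_toUnit_assoc] at h'
    exact h'
  mul_one := by
    have h := sm_one hm
    have e : Q ◁ (η[G] ≫ p) = lift (fst Q (𝟙_ C)) (toUnit (Q ⊗ 𝟙_ C) ≫ η[G] ≫ p) := by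
      ext
      · simp
      · simp only [whiskerLeft_snd, lift_snd]
        congr 1
        exact toUnit_unique _ _
    rw [e, rightUnitor_hom]
    have h' := congrArg (fst Q (𝟙_ C) ≫ ·) h
    simp only [comp_sm, Category.comp_id, comp_toUnit_assoc] at h'
    exact h'
  mul_assoc := by
    have h := sm_assoc hm
    have e1 : (m ▷ Q) ≫ m =
        sm m (sm m (fst (Q ⊗ Q) Q ≫ fst Q Q) (fst (Q ⊗ Q) Q ≫ snd Q Q)) (snd (Q ⊗ Q) Q) := by
      simp only [sm, lift_comp_fst_snd]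
      congr 1
      ext <;> simp
    have e2 : (α_ Q Q Q).hom ≫ (Q ◁ m) ≫ m =
        sm m (fst (Q ⊗ Q) Q ≫ fst Q Q) (sm m (fst (Q ⊗ Q) Q ≫ snd Q Q) (snd (Q ⊗ Q) Q)) := by
      simp only [sm]
      rw [← Category.assoc]
      congr 1
      ext
      · simp
      · simp only [Category.assoc, whiskerLeft_snd, lift_snd]
        rw [← Category.assoc]
        congr 1
        ext <;> simp
    rw [e1, e2, h]
  inv := i
  left_inv := by
    have h := inv_sm hm hi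
    simpa only [sm] using h
  right_inv := by
    have h := sm_inv hm hi
    simpa only [sm] using h

lemma isMonHom (hm : (p ⊗ₘ p) ≫ m = μ[G] ≫ p) (hi : p ≫ i = ι[G] ≫ p)
    [Epi p] [Epi ((p ⊗ₘ p) ⊗ₘ p)] :
    @IsMonHom C _ _ G Q _ (grpObj hm hi).toMonObj p :=
  @IsMonHom.mk C _ _ G Q _ (grpObj hm hi).toMonObj p rfl hm.symm

end Groth.Agent.H3.QGrp
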