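import Mathlib
import Groth.Agent.Lib.Helper3.FpqcCov.Basic
import Groth.Agent.Lib.Helper3.FpqcCov.QGrp
import Groth.Agent.H4.GrpQ10
import Groth.Agent.Lib.Helper1.FlatSource

/-!
# fpqc quotients `G ⟶ G''` of a group scheme by a subgroup: general properties (SGA3 VI_B 9.2)
-/

set_option autoImplicit false

open CategoryTheory Limits MonoidalCategory CartesianMonoidalCategory MonObj AlgebraicGeometry

universe u

namespace Groth.Agent.H3.FpqcCov

section Graph

variable {S : Scheme.{u}} {R X Y : Over S} (t s : R ⟶ X) (p : X ⟶ Y)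

lemma graph_sq (hR : IsPullback t s p p) :
    IsPullback (lift t s).left (t.left ≫ p.left)
      (Groth.Agent.H4.GrpQ10.ππ p.left Y.hom X.hom (Over.w p)) (pullback.diagonal Y.hom) :=
  Groth.Agent.H4.GrpQ10.isPullback_diag t.left s.left p.left Y.hom X.hom (Over.w p)
    (hR.map (Over.forget S))

lemma hcf_ππ (hp : HCF p.left) :
    HCF (Groth.Agent.H4.GrpQ10.ππ p.left Y.hom X.hom (Over.w p)) :=
  MorphismProperty.pullbackMap (P := HCF) (f := X.hom) (g := X.hom) (f' := Y.hom) (g' := Y.hom)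
    (i₁ := p.left) (i₂ := p.left) hp hp (Over.w p).symm (Over.w p).symm

theorem isImmersion_graph (hR : IsPullback t s p p) : IsImmersion (lift t s).left :=
  MorphismProperty.of_isPullback (P := @IsImmersion) (graph_sq t s p hR).flip inferInstance

theorem isClosedImmersion_graph (hR : IsPullback t s p p) [IsSeparated Y.hom] :
    IsClosedImmersion (lift t s).left :=
  MorphismProperty.of_isPullback (P := @IsClosedImmersion) (graph_sq t s p hR).flip inferInstance

theorem isSeparated_of_graph (hR : IsPullback t s p p) (hp : HCF p.left)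
    (hc : IsClosedImmersion (lift t s).left) : IsSeparated Y.hom :=
  ⟨HCF.of_isPullback (P := @IsClosedImmersion) (graph_sq t s p hR) (hcf_ππ p hp) hc⟩

end Graph

section Over

variable {S : Scheme.{u}}

lemma over_epi {X Y : Over S} (p : X ⟶ Y) (hp : HCF p.left) : Epi p := by
  have : Epi ((Over.forget S).map p) := hp.epi
  exact (Over.forget S).epi_of_epi_map this

lemma over_exists_desc {X Y W : Over S} (p : X ⟶ Y) (hp : HCF p.left) (f : X ⟶ W)
    (hf : ∀ {T : Over S} (a b : T ⟶ X), a ≫ p = b ≫ p → a ≫ f = b ≫ f) :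
    ∃ g : Y ⟶ W, p ≫ g = f := by
  obtain ⟨g, hg⟩ := hp.exists_desc f.left (fun {T} a b hab => by
    have hb : b ≫ X.hom = a ≫ X.hom := by
      rw [← Over.w p, ← Category.assoc, ← Category.assoc, hab]
    have := hf (T := Over.mk (a ≫ X.hom)) (Over.homMk a rfl) (Over.homMk b hb)
      (by ext; exact hab)
    exact congrArg (fun k => k.left) this)
  have := hp.epi
  have hgw : g ≫ W.hom = Y.hom := by
    rw [← cancel_epi p.left, ← Category.assoc, hg, Over.w f, Over.w p]
  exact ⟨Over.homMk g hgw, by ext; exact hg⟩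

lemma hcf_tensorHom {X Y X' Y' : Over S} (p : X ⟶ Y) (p' : X' ⟶ Y') (hp : HCF p.left)
    (hp' : HCF p'.left) : HCF (p ⊗ₘ p').left := by
  rw [Over.tensorHom_left]
  exact MorphismProperty.pullbackMap (P := HCF) hp hp' (Over.w p).symm (Over.w p').symm

end Over

section Grp

variable {S : Scheme.{u}} {G G' G'' : Over S} [GrpObj G] [GrpObj G'] (u : G' ⟶ G) (p : G ⟶ G'')
  (hsq : IsPullback ((G ◁ u) ≫ μ[G]) (fst G G') p p)

include hsq

omit [GrpObj G'] in
lemma mul_comp_p {T : Over S} (g : T ⟶ G) (h : T ⟶ G') : (g * (h ≫ u)) ≫ p = g ≫ p := by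
  have e : g * (h ≫ u) = lift g h ≫ (G ◁ u) ≫ μ[G] := by
    rw [lift_whiskerLeft_assoc]; rfl
  rw [e, Category.assoc, Category.assoc, ← Category.assoc (G ◁ u), hsq.w, lift_fst_assoc]

omit [GrpObj G'] in
lemma exists_of_comp_eq {T : Over S} (a b : T ⟶ G) (hab : a ≫ p = b ≫ p) :
    ∃ h : T ⟶ G', a = b * (h ≫ u) := by
  refine ⟨hsq.lift a b hab ≫ snd G G', ?_⟩
  have h1 := hsq.lift_fst a b hab
  have h2 := hsq.lift_snd a b hab
  have h3 : hsq.lift a b hab = lift b (hsq.lift a b hab ≫ snd G G') := by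
    ext
    · rw [lift_fst, h2]
    · rw [lift_snd]
  rw [Hom.mul_def, ← lift_whiskerLeft_assoc, ← h3, ← Category.assoc]
  exact h1.symm

omit [GrpObj G'] in
lemma comp_p_eq_iff {T : Over S} (a b : T ⟶ G) :
    a ≫ p = b ≫ p ↔ ∃ h : T ⟶ G', a = b * (h ≫ u) :=
  ⟨exists_of_comp_eq u p hsq a b, fun ⟨h, hh⟩ => by rw [hh, mul_comp_p u p hsq]⟩

omit [GrpObj G'] in
/-- `G'` is the fibre of `p` over the image of the unit section. -/
lemma isPullback_kernel [Mono u] : IsPullback u (toUnit G') p (η[G] ≫ p) := by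
  have hw : u ≫ p = toUnit G' ≫ η[G] ≫ p := by
    have := mul_comp_p u p hsq (1 : G' ⟶ G) (𝟙 G')
    rw [Category.id_comp, _root_.one_mul] at this
    rw [this, Hom.one_def, Category.assoc]
  have hex : ∀ c : PullbackCone p (η[G] ≫ p),
      ∃ l : c.pt ⟶ G', l ≫ u = c.fst ∧ l ≫ toUnit G' = c.snd := by
    intro c
    have hc : c.fst ≫ p = (1 : c.pt ⟶ G) ≫ p := by
      rw [c.condition, Hom.one_def, Category.assoc]
      congr 1
      exact toUnit_unique _ _
    obtain ⟨h, hh⟩ := exists_of_comp_eq u p hsq _ _ hc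
    exact ⟨h, by rw [hh, _root_.one_mul], toUnit_unique _ _⟩
  choose l hl1 hl2 using hex
  refine IsPullback.of_isLimit (PullbackCone.IsLimit.mk hw l hl1 hl2 (fun c m h1 h2 => ?_))
  rw [← cancel_mono u, h1, hl1]

end Grp

section Shear

variable {C : Type*} [Category C] [CartesianMonoidalCategory C] (G : C) [GrpObj G]

/-- the shear automorphism `(a, b) ↦ (ab, a)` of `G × G` -/
def shear : G ⊗ G ≅ G ⊗ G where
  hom := lift (fst G G * snd G G) (fst G G)
  inv := lift (snd G G) ((snd G G)⁻¹ * fst G G)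
  hom_inv_id := by ext <;> simp [MonObj.comp_mul, GrpObj.comp_inv]
  inv_hom_id := by ext <;> simp [MonObj.comp_mul]

lemma mul_eq_fst_mul_snd : μ[G] = fst G G * snd G G := by
  rw [Hom.mul_def, lift_fst_snd, Category.id_comp]

lemma graph_eq {G' : C} (u : G' ⟶ G) :
    lift ((G ◁ u) ≫ μ[G]) (fst G G') = (G ◁ u) ≫ (shear G).hom := by
  rw [mul_eq_fst_mul_snd]
  ext <;> simp [shear, MonObj.comp_mul]

end Shear

section Main

variable {S : Scheme.{u}} {G G' G'' : Over S} [GrpObj G] [GrpObj G'] (u : G' ⟶ G) (p : G ⟶ G'')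
  (hsq : IsPullback ((G ◁ u) ≫ μ[G]) (fst G G') p p)

lemma isClosedImmersion_whiskerLeft {G G' : Over S} (u : G' ⟶ G) [IsClosedImmersion u.left]
    (H : Over S) : IsClosedImmersion (H ◁ u).left := by
  rw [Over.whiskerLeft_left]
  exact MorphismProperty.pullbackMap (P := @IsClosedImmersion)
    (inferInstance : IsClosedImmersion (𝟙 H.left)) ‹_› (Category.id_comp _).symm (Over.w u).symm

include hsq

theorem main_S5369 [IsMonHom u] [Mono u] (hp : HCF p.left) :
    IsPullback u (toUnit G') p (η[G] ≫ p) ∧ IsImmersion u.left ∧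
    (IsSeparated G''.hom ↔ IsClosedImmersion u.left) ∧
    (IsClosedImmersion u.left ↔ IsClosedImmersion (η[G] ≫ p).left) := by
  have hk := isPullback_kernel u p hsq
  have hk' : IsPullback u.left G'.hom p.left (η[G] ≫ p).left := hk.map (Over.forget S)
  have hε : (η[G] ≫ p).left ≫ G''.hom = 𝟙 S := Over.w (η[G] ≫ p)
  have immε : IsImmersion (η[G] ≫ p).left := by
    have : IsImmersion ((η[G] ≫ p).left ≫ G''.hom) := by
      rw [hε]; exact (inferInstance : IsImmersion (𝟙 S))
    exact IsImmersion.of_comp _ G''.hom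
  have h4a : IsClosedImmersion u.left → IsClosedImmersion (η[G] ≫ p).left := fun h =>
    HCF.of_isPullback (P := @IsClosedImmersion) hk' hp h
  have h4b : IsClosedImmersion (η[G] ≫ p).left → IsClosedImmersion u.left := fun h =>
    MorphismProperty.of_isPullback (P := @IsClosedImmersion) hk'.flip h
  refine ⟨hk, MorphismProperty.of_isPullback (P := @IsImmersion) hk'.flip immε,
    ⟨fun hsep => h4b ?_, fun h => ?_⟩, ⟨h4a, h4b⟩⟩
  · have : IsClosedImmersion ((η[G] ≫ p).left ≫ G''.hom) := by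
      rw [hε]; exact (inferInstance : IsClosedImmersion (𝟙 S))
    exact IsClosedImmersion.of_comp _ G''.hom
  · apply isSeparated_of_graph _ _ p hsq hp
    rw [graph_eq]
    have : IsClosedImmersion (G ◁ u).left := isClosedImmersion_whiskerLeft u G
    have : IsIso (shear G).hom.left := inferInstanceAs (IsIso ((Over.forget S).map (shear G).hom))
    exact inferInstanceAs (IsClosedImmersion ((G ◁ u).left ≫ (shear G).hom.left))

omit hsq in
/-- The target of a morphism dominated by an fpqc covering is reduced if the source is. -/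
lemma isReduced_of_hcf {X Y : Scheme.{u}} (p : X ⟶ Y) (hp : HCF p) [IsReduced X] :
    IsReduced Y := by
  obtain ⟨Z, r, hr⟩ := hp
  have hs := hr.surjective
  have hf := hr.flat
  have : ∀ y, _root_.IsReduced (Y.presheaf.stalk y) := by
    intro y
    obtain ⟨z, rfl⟩ := (r ≫ p).surjective y
    constructor
    intro n hn
    have hflat := Flat.stalkMap (r ≫ p) z
    have hinj : Function.Injective ((r ≫ p).stalkMap z).hom := by
      algebraize [((r ≫ p).stalkMap z).hom]
      have : IsLocalHom (algebraMap (Y.presheaf.stalk ((r ≫ p) z)) (Z.presheaf.stalk z)) := by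
        change IsLocalHom ((r ≫ p).stalkMap z).hom
        infer_instance
      have : Module.FaithfullyFlat (Y.presheaf.stalk ((r ≫ p) z)) (Z.presheaf.stalk z) :=
        Module.FaithfullyFlat.of_flat_of_isLocalHom
      exact FaithfulSMul.algebraMap_injective _ _
    apply hinj
    rw [map_zero]
    have h0 : (p.stalkMap (r z)).hom n = 0 := (hn.map _).eq_zero
    have e := Scheme.Hom.stalkMap_comp r p z
    rw [e]
    change (r.stalkMap z).hom ((p.stalkMap (r z)).hom n) = 0
    rw [h0, map_zero]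
  exact isReduced_of_isReduced_stalk Y

theorem main_S5370 [IsMonHom u] [Mono u] (hp : HCF p.left) :
    (IsReduced G.left → IsReduced G''.left) ∧
    (Flat G'.hom ↔ Flat p.left) ∧ (Flat p.left → (Flat G''.hom ↔ Flat G.hom)) := by
  have hk := isPullback_kernel u p hsq
  have hk' : IsPullback u.left G'.hom p.left (η[G] ≫ p).left := hk.map (Over.forget S)
  have hsq' : IsPullback ((G ◁ u) ≫ μ[G]).left (fst G G').left p.left p.left :=
    hsq.map (Over.forget S)
  refine ⟨fun h => isReduced_of_hcf p.left hp, ⟨fun h => ?_, fun h => ?_⟩, fun h => ⟨fun h' => ?_, fun h' => ?_⟩⟩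
  · have : Flat (fst G G').left := inferInstanceAs (Flat (pullback.fst G.hom G'.hom))
    exact HCF.of_isPullback (P := @Flat) hsq'.flip hp this
  · exact MorphismProperty.of_isPullback (P := @Flat) hk' h
  · rw [← Over.w p]; infer_instance
  · have := hp.surjective
    have : Flat (p.left ≫ G''.hom) := by rw [Over.w p]; exact h'
    exact Groth.Agent.H1.flat_of_flat_comp_of_surjective p.left G''.hom

theorem main_S5372 [IsMonHom u] (hp : HCF p.left) (hN : AlgGrp.IsNormalHom u) :
    ∃ _ : GrpObj G'', IsMonHom p ∧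
      ∀ m : G'' ⊗ G'' ⟶ G'', (p ⊗ₘ p) ≫ m = μ[G] ≫ p → m = μ[G''] := by
  have hpp := hcf_tensorHom p p hp hp
  have hppp := hcf_tensorHom (p ⊗ₘ p) p hpp hp
  have e1 := over_epi p hp
  have e2 := over_epi _ hpp
  have e3 := over_epi _ hppp
  have emul : ∀ {T : Over S} (a : T ⟶ G ⊗ G), a ≫ μ[G] = (a ≫ fst G G) * (a ≫ snd G G) := by
    intro T a
    rw [Hom.mul_def, lift_comp_fst_snd]
  obtain ⟨m, hm⟩ := over_exists_desc (p ⊗ₘ p) hpp (μ[G] ≫ p) (fun {T} a b hab => by
    have h1 : (a ≫ fst G G) ≫ p = (b ≫ fst G G) ≫ p := by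
      have := congrArg (· ≫ fst G'' G'') hab
      simpa only [Category.assoc, tensorHom_fst] using this
    have h2 : (a ≫ snd G G) ≫ p = (b ≫ snd G G) ≫ p := by
      have := congrArg (· ≫ snd G'' G'') hab
      simpa only [Category.assoc, tensorHom_snd] using this
    obtain ⟨k₁, hk₁⟩ := exists_of_comp_eq u p hsq _ _ h1
    obtain ⟨k₂, hk₂⟩ := exists_of_comp_eq u p hsq _ _ h2
    obtain ⟨n', hn'⟩ := hN T (b ≫ snd G G)⁻¹ k₁
    have key : (a ≫ fst G G) * (a ≫ snd G G) =
        ((b ≫ fst G G) * (b ≫ snd G G)) * ((n' * k₂) ≫ u) := by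
      rw [hk₁, hk₂, MonObj.mul_comp, ← hn']
      group
    rw [← Category.assoc, ← Category.assoc, emul a, emul b, key, mul_comp_p u p hsq])
  obtain ⟨i, hi⟩ := over_exists_desc p hp (ι[G] ≫ p) (fun {T} a b hab => by
    obtain ⟨k, hk⟩ := exists_of_comp_eq u p hsq _ _ hab
    obtain ⟨n', hn'⟩ := hN T b k⁻¹
    have key : a⁻¹ = b⁻¹ * (n' ≫ u) := by
      rw [hk, ← hn', GrpObj.inv_comp]
      group
    rw [← Category.assoc, ← Category.assoc, ← Hom.inv_def, ← Hom.inv_def, key,
      mul_comp_p u p hsq])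
  refine ⟨QGrp.grpObj hm hi, QGrp.isMonHom hm hi, fun m' hm' => ?_⟩
  change m' = m
  rw [← cancel_epi (p ⊗ₘ p), hm', hm]

end Main

/-- The statement-shaped covering hypothesis. -/
lemma hcf_of_hcov {S : Scheme.{u}} {X Y : Over S} (p : X ⟶ Y)
    (hcov : ∃ (Z : Scheme.{u}) (q : Z ⟶ Y.left) (r : Z ⟶ X.left), r ≫ p.left = q ∧
      Surjective q ∧ Flat q ∧ ∀ V : Y.left.Opens, IsAffineOpen V →
        ∃ W : Z.Opens, IsCompact (W : Set Z) ∧ q.base '' (W : Set Z) = (V : Set Y.left)) :
    HCF p.left :=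
  hcf_of_cond p.left hcov

end Groth.Agent.H3.FpqcCov
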