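import Mathlib
import Groth.Agent.Lib.Helper3.FpqcCov.MaxOpen
import Groth.Agent.Lib.Helper3.FpqcCov.Quot

/-!
# The largest open over which a homomorphism of group schemes has an fpqc-local property
-/

set_option autoImplicit false

open CategoryTheory Limits MonoidalCategory CartesianMonoidalCategory MonObj AlgebraicGeometry
open MorphismProperty

universe u

namespace Groth.Agent.H3.FpqcCov

section Act

variable {C : Type*} [Category C] [CartesianMonoidalCategory C] {G H : C} [GrpObj G] [GrpObj H]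
  (u : G ⟶ H)

/-- the action map `(g, h) ↦ u(g) h` -/
def act : G ⊗ H ⟶ H := (fst G H ≫ u) * snd G H

/-- `(g, h) ↦ (g, u(g) h)` -/
def actIso : G ⊗ H ≅ G ⊗ H where
  hom := lift (fst G H) (act u)
  inv := lift (fst G H) ((fst G H ≫ u)⁻¹ * snd G H)
  hom_inv_id := by ext <;> simp [act, MonObj.comp_mul, GrpObj.comp_inv]
  inv_hom_id := by ext <;> simp [act, MonObj.comp_mul]

omit [GrpObj G] in
lemma actIso_hom_snd : (actIso u).hom ≫ snd G H = act u := by simp [actIso]

lemma isPullback_act [IsMonHom u] : IsPullback μ[G] (G ◁ u) u (act u) := by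
  refine IsPullback.mk' ?_ ?_ ?_
  · rw [mul_eq_fst_mul_snd, MonObj.mul_comp]
    simp [act, MonObj.comp_mul]
  · intro T φ φ' h1 h2
    have hf : φ ≫ fst G G = φ' ≫ fst G G := by
      have := congrArg (fun g => g ≫ fst G H) h2
      simpa using this
    apply CartesianMonoidalCategory.hom_ext _ _ hf
    have e1 : φ ≫ μ[G] = (φ ≫ fst G G) * (φ ≫ snd G G) := by
      rw [Hom.mul_def, lift_comp_fst_snd]
    have e2 : φ' ≫ μ[G] = (φ' ≫ fst G G) * (φ' ≫ snd G G) := by
      rw [Hom.mul_def, lift_comp_fst_snd]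
    rw [e1, e2, hf] at h1
    exact mul_left_cancel h1
  · intro T x y hxy
    refine ⟨lift (y ≫ fst G H) ((y ≫ fst G H)⁻¹ * x), ?_, ?_⟩
    · rw [mul_eq_fst_mul_snd, MonObj.comp_mul]
      simp
    · apply CartesianMonoidalCategory.hom_ext
      · simp
      · simp [MonObj.mul_comp, GrpObj.inv_comp, hxy, act, MonObj.comp_mul]

end Act

section Main

variable {S : Scheme.{u}} {G H : Over S} [GrpObj G] [GrpObj H] (u : G ⟶ H) [IsMonHom u]

theorem main_S5389 (P : MorphismProperty Scheme.{u}) [P.IsStableUnderBaseChange]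
    [IsZariskiLocalAtTarget P] [P.DescendsAlong (@Flat ⊓ @Surjective ⊓ @QuasiCompact)]
    [Flat G.hom] [UniversallyOpen G.hom]
    (W : H.left.Opens) (hW : P (u.left ∣_ W))
    (hmax : ∀ W' : H.left.Opens, P (u.left ∣_ W') → W' ≤ W) :
    IsOpen (G.hom.base '' ((u.left ⁻¹ᵁ W : G.left.Opens) : Set G.left)) ∧
    (∀ g ∈ u.left ⁻¹ᵁ W, ∀ p : ↥(𝟙_ (Over S)).left,
      (𝟙_ (Over S)).hom.base p = G.hom.base g → η[G].left.base p ∈ u.left ⁻¹ᵁ W) ∧
    (∀ g ∈ u.left ⁻¹ᵁ W, ι[G].left.base g ∈ u.left ⁻¹ᵁ W) ∧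
    (∀ z : ↥(G ⊗ G).left, (fst G G).left.base z ∈ u.left ⁻¹ᵁ W →
      (snd G G).left.base z ∈ u.left ⁻¹ᵁ W → μ[G].left.base z ∈ u.left ⁻¹ᵁ W) := by
  have hloc : P.IsLocalAtTarget Scheme.fpqcPrecoverage := by
    have : P.DescendsAlong Groth.Agent.H3.FpqcLocal.Qfpqc :=
      MorphismProperty.DescendsAlong.of_le (Q := @Flat ⊓ @Surjective ⊓ @QuasiCompact)
        (fun X Y f hf => ⟨⟨hf.1.2, hf.1.1⟩, hf.2⟩)
    exact Groth.Agent.H3.FpqcLocal.isLocalAtTarget_fpqc P
  have hW' : BC P u.left W.ι := (bc_iff P (isPullback_morphismRestrict u.left W).flip).2 hW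
  have hmax' : ∀ W' : H.left.Opens, BC P u.left W'.ι → W' ≤ W := fun W' h =>
    hmax W' ((bc_iff P (isPullback_morphismRestrict u.left W').flip).1 h)
  have hf₂fl : Flat (snd G H).left := inferInstanceAs (Flat (pullback.snd G.hom H.hom))
  have hf₂op : UniversallyOpen (snd G H).left :=
    inferInstanceAs (UniversallyOpen (pullback.snd G.hom H.hom))
  have e₁ : (act u).left = (actIso u).hom.left ≫ (snd G H).left := by
    rw [← Over.comp_left, actIso_hom_snd]
  have hiso : IsIso (actIso u).hom.left :=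
    inferInstanceAs (IsIso ((Over.forget S).map (actIso u).hom))
  have hf₁fl : Flat (act u).left := by rw [e₁]; infer_instance
  have hf₁op : IsOpenMap (act u).left.base := by
    rw [e₁]
    exact Scheme.Hom.isOpenMap _
  have key := preimage_eq P u.left W hW' hmax' (act u).left (snd G H).left hf₁op
    (snd G H).left.isOpenMap (G ◁ u).left μ[G].left (snd G G).left
    ((isPullback_act u).map (Over.forget S))
    ((Groth.Agent.H3.GrpQuot.isPullback_whiskerLeft G u).flip.map (Over.forget S))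
  have keypt : ∀ z : (G ⊗ H).left, (act u).left z ∈ W ↔ (snd G H).left z ∈ W := fun z => by
    have := congrArg (fun O : (G ⊗ H).left.Opens => z ∈ O) key
    simpa using this
  have pt : ∀ {A B D : Over S} (f : A ⟶ B) (g : B ⟶ D) (x : A.left),
      (f ≫ g).left x = g.left (f.left x) := fun f g x => rfl
  -- unit
  have hunit : ∀ g : G.left, u.left g ∈ W → η[H].left ((toUnit G).left g) ∈ W := by
    intro g hg
    have ha : lift (𝟙 G) (toUnit G ≫ η[H]) ≫ act u = u := by
      simp [act, MonObj.comp_mul, ← Hom.one_def]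
    have h1 : (act u).left ((lift (𝟙 G) (toUnit G ≫ η[H])).left g) ∈ W := by
      rw [← pt, ha]; exact hg
    have h2 := (keypt _).1 h1
    rw [← pt, lift_snd, pt] at h2
    exact h2
  refine ⟨G.hom.isOpenMap _ (u.left ⁻¹ᵁ W).2, ?_, ?_, ?_⟩
  · intro g hg p hp
    have hp' : p = (toUnit G).left g := hp
    change u.left (η[G].left p) ∈ W
    rw [← pt, IsMonHom.one_hom, hp']
    exact hunit g hg
  · intro g hg
    change u.left (ι[G].left g) ∈ W
    have ha : lift (𝟙 G) (ι[G] ≫ u) ≫ act u = toUnit G ≫ η[H] := by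
      simp [act, MonObj.comp_mul, GrpObj.inv_eq_inv, GrpObj.inv_comp, Hom.one_def]
    have h1 : (act u).left ((lift (𝟙 G) (ι[G] ≫ u)).left g) ∈ W := by
      rw [← pt, ha, pt]; exact hunit g hg
    have h2 := (keypt _).1 h1
    rw [← pt, lift_snd, pt] at h2
    exact h2
  · intro z _ hz2
    change u.left (μ[G].left z) ∈ W
    have ha : (G ◁ u) ≫ act u = μ[G] ≫ u := ((isPullback_act u).w).symm
    have h1 : (snd G H).left ((G ◁ u).left z) ∈ W := by
      rw [← pt, whiskerLeft_snd, pt]; exact hz2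
    have h2 := (keypt _).2 h1
    rw [← pt, ha, pt] at h2
    exact h2

end Main

end Groth.Agent.H3.FpqcCov
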