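import Mathlib
import Groth.Agent.Lib.Helper3.FpqcCov.Quot
import Groth.Agent.Lib.Helper3.SmSrc.FppfSm
import Groth.Agent.S0114
import Groth.Agent.S0115
import Groth.Agent.S5938
import Groth.Agent.S5939
import Groth.Agent.S2807

/-!
# fpqc quotients `G ⟶ G''` of a group scheme by a subgroup: finiteness properties
(SGA3 VI_B 9.2 (xii), (xiii))
-/

set_option autoImplicit false

open CategoryTheory Limits MonoidalCategory CartesianMonoidalCategory MonObj AlgebraicGeometry
open MorphismProperty

universe u

namespace Groth.Agent.H3.FpqcCov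

open Groth.Agent.H3.FpqcLocal

attribute [local instance] quasiCompact_descendsAlong_fpqc in
lemma quasiSeparated_descendsAlong_fpqc :
    MorphismProperty.DescendsAlong @QuasiSeparated.{u} Qfpqc := by
  rw [quasiSeparated_eq_diagonal_is_quasiCompact]
  infer_instance

attribute [local instance] quasiSeparated_descendsAlong_fpqc in
instance quasiSeparated_fpqc :
    MorphismProperty.IsLocalAtTarget @QuasiSeparated.{u} Scheme.fpqcPrecoverage :=
  isLocalAtTarget_fpqc _

lemma formallyUnramified_of_fppf_comp {X Y S : Scheme.{u}} (f : X ⟶ Y) (q : Y ⟶ S)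
    [Surjective f] [Flat f] [LocallyOfFinitePresentation f]
    [LocallyOfFinitePresentation (f ≫ q)] [FormallyUnramified (f ≫ q)] :
    FormallyUnramified q := by
  have hq : LocallyOfFinitePresentation q := Groth.Agent.S0114.result f q
  have key : ∀ y : Y, ∃ V : Y.Opens, y ∈ V ∧ FormallyUnramified (V.ι ≫ q) := by
    intro y
    obtain ⟨x, rfl⟩ := f.surjective y
    have hh : ∃ U : X.Opens, x ∈ U ∧ FormallyUnramified (U.ι ≫ (f ≫ q)) :=
      ⟨⊤, trivial, IsZariskiLocalAtSource.comp (P := @FormallyUnramified)
        (inferInstance : FormallyUnramified (f ≫ q)) _⟩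
    exact Groth.Agent.S2807.result q (f ≫ q) f rfl x (Flat.stalkMap f x) hh
  choose V hyV hV using key
  refine IsZariskiLocalAtSource.of_iSup_eq_top (P := @FormallyUnramified) V ?_ hV
  rw [eq_top_iff]
  rintro y -
  simp only [TopologicalSpace.Opens.mem_iSup]
  exact ⟨y, hyV y⟩

lemma quasiCompact_of_surjective_comp {X Y Z : Scheme.{u}} (f : X ⟶ Y) (g : Y ⟶ Z)
    [Surjective f] [QuasiCompact (f ≫ g)] : QuasiCompact g := by
  constructor
  intro U hU hUc
  have h1 : IsCompact ((f ≫ g) ⁻¹' U) := QuasiCompact.isCompact_preimage U hU hUc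
  have h2 : f '' ((f ≫ g) ⁻¹' U) = g ⁻¹' U := by
    ext y
    constructor
    · rintro ⟨x, hx, rfl⟩
      exact hx
    · intro hy
      obtain ⟨x, rfl⟩ := f.surjective y
      exact ⟨x, hy, rfl⟩
  rw [← h2]
  exact h1.image f.continuous

section Main

variable {S : Scheme.{u}} {G G' G'' : Over S} [GrpObj G] [GrpObj G'] (u : G' ⟶ G) (p : G ⟶ G'')
  (hsq : IsPullback ((G ◁ u) ≫ μ[G]) (fst G G') p p)

include hsq

theorem main_S5371 [IsMonHom u] [Mono u] (hp : HCF p.left) :
    ((Flat G'.hom ∧ LocallyOfFinitePresentation G'.hom) ↔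
      (Surjective p.left ∧ Flat p.left ∧ LocallyOfFinitePresentation p.left)) ∧
    (Flat p.left → LocallyOfFinitePresentation p.left →
      (LocallyOfFinitePresentation G.hom → LocallyOfFinitePresentation G''.hom) ∧
      (LocallyOfFiniteType G.hom → LocallyOfFiniteType G''.hom) ∧
      (LocallyOfFiniteType G.hom → QuasiCompact G.hom → QuasiCompact G''.hom) ∧
      (Smooth G.hom → Smooth G''.hom) ∧ (Etale G.hom → Etale G''.hom) ∧
      (FormallyUnramified G.hom → LocallyOfFinitePresentation G.hom →
        FormallyUnramified G''.hom) ∧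
      (LocallyQuasiFinite G.hom → LocallyOfFiniteType G.hom → LocallyQuasiFinite G''.hom)) ∧
    (Flat G'.hom → LocallyOfFinitePresentation G'.hom → QuasiCompact G'.hom →
      QuasiSeparated G'.hom →
      QuasiCompact p.left ∧ QuasiSeparated p.left ∧ LocallyOfFinitePresentation p.left ∧
      ((LocallyOfFinitePresentation G.hom ∧ QuasiCompact G.hom ∧ QuasiSeparated G.hom) ↔
        (LocallyOfFinitePresentation G''.hom ∧ QuasiCompact G''.hom ∧
          QuasiSeparated G''.hom))) := by
  have hk := isPullback_kernel u p hsq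
  have hk' : IsPullback u.left G'.hom p.left (η[G] ≫ p).left := hk.map (Over.forget S)
  have hsq' : IsPullback ((G ◁ u) ≫ μ[G]).left (fst G G').left p.left p.left :=
    hsq.map (Over.forget S)
  have hsurj : Surjective p.left := hp.surjective
  have desc : ∀ (P : MorphismProperty Scheme.{u}) [P.IsLocalAtTarget Scheme.fpqcPrecoverage]
      [P.IsStableUnderBaseChange], P G'.hom → P p.left := fun P _ _ h =>
    HCF.of_isPullback (P := P) hsq'.flip hp (P.pullback_fst G.hom G'.hom h)
  have up : ∀ (P : MorphismProperty Scheme.{u}) [P.IsStableUnderBaseChange],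
      P p.left → P G'.hom := fun P _ h => P.of_isPullback hk' h
  have hw : p.left ≫ G''.hom = G.hom := Over.w p
  refine ⟨⟨fun ⟨h1, h2⟩ => ⟨hsurj, desc @Flat h1, desc @LocallyOfFinitePresentation h2⟩,
    fun ⟨_, h1, h2⟩ => ⟨up @Flat h1, up @LocallyOfFinitePresentation h2⟩⟩, ?_, ?_⟩
  · intro hfl hlfp
    have hsj : ∀ y : G''.left, ∃ _ : Unit, y ∈ Set.range p.left.base :=
      fun y => ⟨(), p.left.surjective y⟩
    refine ⟨fun h => ?_, fun h => ?_, fun _ h => ?_, fun h => ?_, fun h => ?_, fun h h' => ?_,
      fun h h' => ?_⟩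
    · have : LocallyOfFinitePresentation (p.left ≫ G''.hom) := by rw [hw]; exact h
      exact Groth.Agent.S0114.result p.left G''.hom
    · have : LocallyOfFiniteType (p.left ≫ G''.hom) := by rw [hw]; exact h
      exact Groth.Agent.S5938.result p.left G''.hom
    · have : QuasiCompact (p.left ≫ G''.hom) := by rw [hw]; exact h
      exact quasiCompact_of_surjective_comp p.left G''.hom
    · have : Smooth (p.left ≫ G''.hom) := by rw [hw]; exact h
      exact Groth.Agent.S0115.result p.left G''.hom
    · have : Etale (p.left ≫ G''.hom) := by rw [hw]; exact h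
      exact Groth.Agent.H3.FppfSm.etale_of_family (fun _ : Unit => G.left) (fun _ => p.left)
        G''.hom hsj (fun _ => this)
    · have : LocallyOfFinitePresentation (p.left ≫ G''.hom) := by rw [hw]; exact h'
      have : FormallyUnramified (p.left ≫ G''.hom) := by rw [hw]; exact h
      exact formallyUnramified_of_fppf_comp p.left G''.hom
    · have h1 : LocallyOfFiniteType (p.left ≫ G''.hom) := by rw [hw]; exact h'
      have : LocallyOfFiniteType G''.hom := Groth.Agent.S5938.result p.left G''.hom
      have h2 : LocallyQuasiFinite (p.left ≫ G''.hom) := by rw [hw]; exact h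
      exact Groth.Agent.H3.FppfSm.locallyQuasiFinite_of_family (fun _ : Unit => G.left)
        (fun _ => p.left) G''.hom (fun _ => p.left.isOpenMap) hsj (fun _ => h2)
  · intro h1 h2 h3 h4
    have hfl : Flat p.left := desc @Flat h1
    have hlfp : LocallyOfFinitePresentation p.left := desc @LocallyOfFinitePresentation h2
    have hqc : QuasiCompact p.left := desc @QuasiCompact h3
    have hqs : QuasiSeparated p.left := desc @QuasiSeparated h4
    refine ⟨hqc, hqs, hlfp, ⟨fun ⟨a, b, c⟩ => ?_, fun ⟨a, b, c⟩ => ?_⟩⟩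
    · have : LocallyOfFinitePresentation (p.left ≫ G''.hom) := by rw [hw]; exact a
      have : QuasiCompact (p.left ≫ G''.hom) := by rw [hw]; exact b
      have : QuasiSeparated (p.left ≫ G''.hom) := by rw [hw]; exact c
      have h5 := Groth.Agent.S5939.result p.left G''.hom
      exact ⟨Groth.Agent.S0114.result p.left G''.hom, h5.1, h5.2⟩
    · rw [← hw]
      exact ⟨inferInstance, inferInstance, inferInstance⟩

end Main

end Groth.Agent.H3.FpqcCov
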